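import Cfsg.Agent.Lib.Co1Mult.Elements

/-!
# The relations and certificates of the small levels
-/

set_option autoImplicit false
set_option maxRecDepth 100000

namespace Cfsg.Lib.Co1Mult

open Cfsg.Lib.Concrete Cfsg.Lib.Schur.ModSplit Data

instance fact_one_lt_three' : Fact (1 < 3) := ⟨by norm_num⟩
instance fact_one_lt_five' : Fact (1 < 5) := ⟨by norm_num⟩
instance fact_one_lt_seven' : Fact (1 < 7) := ⟨by norm_num⟩

theorem seven_rel : levelRelOk seven sevenV sevenH = true ∧ levelIndOk seven sevenV = true ∧
    seven.check sevenCert (digitVec 7 _) (digitVec 7 _) (digitVec 7 _) = true := by decide +kernel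

theorem fiveLow_rel : levelRelOk fiveLow fiveLowV fiveLowH = true ∧ levelIndOk fiveLow fiveLowV = true ∧
    fiveLow.check fiveLowCert (digitVec 5 _) (digitVec 5 _) (digitVec 5 _) = true := by decide +kernel

theorem fiveTop_rel : levelRelOk fiveTop fiveTopV fiveTopH = true ∧ levelIndOk fiveTop fiveTopV = true ∧
    fiveTop.check fiveTopCert (digitVec 5 _) (digitVec 5 _) (digitVec 5 _) = true := by decide +kernel

theorem threeLow_rel : levelRelOk threeLow threeLowV threeLowH = true ∧ levelIndOk threeLow threeLowV = true ∧
    threeLow.check threeLowCert (digitVec 3 _) (digitVec 3 _) (digitVec 3 _) = true := by decide +kernel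

theorem threeMid_rel : levelRelOk threeMid threeMidV threeMidH = true ∧ levelIndOk threeMid threeMidV = true ∧
    threeMid.check threeMidCert (digitVec 3 _) (digitVec 3 _) (digitVec 3 _) = true := by decide +kernel

end Cfsg.Lib.Co1Mult
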