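import Cfsg.Agent.Lib.Co1Mult.CheckLevels

/-!
# The relations and certificate of the rank-six level
-/

set_option autoImplicit false
set_option maxRecDepth 100000

namespace Cfsg.Lib.Co1Mult

open Cfsg.Lib.Concrete Cfsg.Lib.Schur.ModSplit Data

theorem threeTop_ind : levelIndOk threeTop threeTopV = true := by decide +kernel

end Cfsg.Lib.Co1Mult
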