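import Cfsg.Agent.Lib.Co1Mult.CheckEls
import Cfsg.Agent.Lib.Co1Mult.CheckLevels
import Cfsg.Agent.Lib.Co1Mult.CheckTop
import Cfsg.Agent.Lib.Co1Mult.CheckTopInd

/-!
# Split local subgroups of orders divisible by the odd prime-power parts of the group order
-/

set_option autoImplicit false
set_option maxRecDepth 100000

namespace Cfsg.Lib.Co1Mult

open Cfsg Cfsg.Lib.Concrete Cfsg.Lib.Co2Out Cfsg.Lib.Schur Cfsg.Lib.Schur.ModSplit Data

theorem hel : ∀ i < Data.tab.length, Co2Out.Rep (el i) (tabAt Data.tab i) := rep_el letters_ok factors_ok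

/-- The subgroup generated by the elements at the positions of a list. -/
noncomputable def genL (l : List ℕ) : Subgroup Co0 := Subgroup.closure {g | ∃ x ∈ l, g = el x}

theorem genL_eq (l : List ℕ) : Subgroup.closure {g | ∃ k < l.length, g = el (l.getD k 0)} = genL l := by
  refine congrArg Subgroup.closure (Set.ext fun g => ⟨?_, ?_⟩)
  · rintro ⟨k, hk, rfl⟩
    exact ⟨_, by rw [List.getD_eq_getElem _ _ hk]; exact List.getElem_mem hk, rfl⟩
  · rintro ⟨x, hx, rfl⟩
    obtain ⟨k, hk, rfl⟩ := List.getElem_of_mem hx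
    exact ⟨k, hk, by rw [List.getD_eq_getElem _ _ hk]⟩

theorem grpOf_genL (d : ModData) (vs hs : List ℕ) (hv : vs.length = d.n) (hh : hs.length = d.m) :
    grpOf d (fun a => el (vs.getD a 0)) (fun k => el (hs.getD k 0)) = genL (vs ++ hs) := by
  refine congrArg Subgroup.closure (Set.ext fun g => ⟨?_, ?_⟩)
  · rintro (⟨a, ha, rfl⟩ | ⟨k, hk, rfl⟩)
    · exact ⟨_, List.mem_append_left _ (by rw [List.getD_eq_getElem _ _ (hv ▸ ha)]; exact List.getElem_mem _), rfl⟩
    · exact ⟨_, List.mem_append_right _ (by rw [List.getD_eq_getElem _ _ (hh ▸ hk)]; exact List.getElem_mem _), rfl⟩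
  · rintro ⟨x, hx, rfl⟩
    rcases List.mem_append.1 hx with hx | hx
    · obtain ⟨k, hk, rfl⟩ := List.getElem_of_mem hx
      exact Or.inl ⟨k, hv ▸ hk, by simp only [List.getD_eq_getElem _ _ hk]⟩
    · obtain ⟨k, hk, rfl⟩ := List.getElem_of_mem hx
      exact Or.inr ⟨k, hh ▸ hk, by simp only [List.getD_eq_getElem _ _ hk]⟩

/-- The disjointness of a level. -/
def Disj (d : ModData) (vs hs : List ℕ) : Prop :=
  (∀ a < d.n, ∀ b < d.n, Commute (el (vs.getD a 0)) (el (vs.getD b 0))) →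
    (∀ a < d.n, el (vs.getD a 0) ^ d.p = 1) → ∀ l : List ℕ, (∀ a ∈ l, a < d.n) →
    wv (fun a => el (vs.getD a 0)) l ∈ genL hs → wv (fun a => el (vs.getD a 0)) l = 1

/-- One step of a chain. -/
theorem step {d : ModData} {c : ModCert} {p : ℕ} (hp : p.Prime) {A : SVec p (d.n * d.n)} {Q : SVec p d.n}
    {H : SVec p (d.m * d.n)} (hc : d.check c A Q H = true) {vs hs : List ℕ}
    (hr : levelRelOk d vs hs = true) (hi : levelIndOk d vs = true) (hsL : Splits p (genL hs))
    (hd : Disj d vs hs) :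
    Splits p (genL (vs ++ hs)) ∧ Nat.card (genL (vs ++ hs)) = p ^ d.n * Nat.card (genL hs) := by
  haveI : Finite Co0 := finite_Co0
  have hc' := hc
  simp only [ModData.check, Bool.and_eq_true, Nat.beq_eq] at hc'
  have hdp : d.p = p := hc'.1.1.1.1.1.1.1
  have hsh : d.shapeOk = true := hc'.1.1.1.1.1.1.2
  have hr' := hr
  simp only [levelRelOk, Bool.and_eq_true, Nat.beq_eq] at hr'
  obtain ⟨⟨⟨⟨⟨⟨⟨hv, hh⟩, -⟩, -⟩, -⟩, -⟩, -⟩, -⟩ := hr'
  have hsh' := hsh
  simp only [ModData.shapeOk, Bool.and_eq_true, List.all_eq_true, Nat.blt_eq] at hsh'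
  obtain ⟨⟨hp1, himg⟩, -⟩ := hsh'
  have hLeq : Subgroup.closure {g | ∃ k < d.m, g = el (hs.getD k 0)} = genL hs := by rw [← genL_eq, hh]
  have S := setting_of_level hel hsh hr hi (fun a b l hl hm => hd a b l hl (hLeq ▸ hm))
  rw [← grpOf_genL d vs hs hv hh]
  refine ⟨splits_of_check hp hc S (hLeq.symm ▸ hsL), ?_⟩
  rw [card_grpOf hp1 S fun k hk a ha => himg (k, a) (List.mem_flatMap.2 ⟨k, List.mem_range.2 hk,
    List.mem_map.2 ⟨a, List.mem_range.2 ha, rfl⟩⟩), hLeq, hdp]

/-- The check of a commutative bottom group. -/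
def botOk (N : ℕ) (hs : List ℕ) : Bool :=
  (hs.all fun a => Nat.blt a Data.tab.length) &&
  (hs.all fun a => hs.all fun b => sameW [a, b] [b, a]) && hs.all fun a => sameW (List.replicate N a) []

theorem bottom {N : ℕ} {hs : List ℕ} {p : ℕ} (hp : p.Prime) (hN : ¬ p ∣ N) (h : botOk N hs = true) :
    Nat.Coprime p (Nat.card (genL hs)) ∧ Splits p (genL hs) := by
  haveI : Finite Co0 := finite_Co0
  simp only [botOk, Bool.and_eq_true, List.all_eq_true, Nat.blt_eq] at h
  obtain ⟨⟨hb, hc⟩, hpw⟩ := h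
  have hcop : Nat.Coprime p (Nat.card (genL hs)) := by
    refine coprime_card_of_gens hp hN _ ?_ ?_
    · rintro _ ⟨a, ha, rfl⟩ _ ⟨b, hb', rfl⟩
      have := eq_of_sameW hel (by simp [hb a ha, hb b hb']) (by simp [hb a ha, hb b hb']) (hc a ha b hb')
      simpa [wv] using this
    · rintro _ ⟨a, ha, rfl⟩
      have := eq_of_sameW hel (fun e he => (List.eq_of_mem_replicate he) ▸ hb a ha) (by simp) (hpw a ha)
      rwa [wv_replicate, wv_nil] at this
  exact ⟨hcop, splits_of_coprime hcop⟩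

theorem disj_coprime {d : ModData} {vs hs : List ℕ} (h : Nat.Coprime d.p (Nat.card (genL hs))) :
    Disj d vs hs := fun hc hp => disjoint_of_coprime (genL hs) hc hp h

/-- The check of a central power map. -/
def scalarOk (d : ModData) (z : List ℕ) (e : ℕ) (vs hs : List ℕ) : Bool :=
  (z.all fun a => Nat.blt a Data.tab.length) && (vs.all fun a => Nat.blt a Data.tab.length) &&
  (hs.all fun a => Nat.blt a Data.tab.length) && Nat.beq vs.length d.n && Nat.beq hs.length d.m &&
  (hs.all fun a => sameW (z ++ [a]) (a :: z)) &&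
  vs.all fun a => sameW (z ++ [a]) (List.replicate e a ++ z)

theorem disj_scalar {d : ModData} {vs hs z : List ℕ} {e : ℕ} (he : 1 ≤ e) (hcop : Nat.Coprime d.p (e - 1))
    (h : scalarOk d z e vs hs = true) : Disj d vs hs := by
  intro hc hp l hl hm
  simp only [scalarOk, Bool.and_eq_true, List.all_eq_true, Nat.blt_eq, Nat.beq_eq] at h
  obtain ⟨⟨⟨⟨⟨⟨hz, hvb⟩, hhb⟩, hv⟩, hh⟩, hzh⟩, hzv⟩ := h
  refine disjoint_of_scalar (d := d) (h := fun k => el (hs.getD k 0)) (c := wv el z) he hcop hc hp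
    (fun k hk => ?_) (fun a ha => ?_) l hl (by rw [← genL_eq, hh] at hm; exact hm)
  · have hm' : hs.getD k 0 ∈ hs := by rw [List.getD_eq_getElem _ _ (hh ▸ hk)]; exact List.getElem_mem _
    have := eq_of_sameW hel (W := z ++ [hs.getD k 0]) (W' := hs.getD k 0 :: z)
      (fun x hx => (List.mem_append.1 hx).elim (hz x) (fun e => (List.mem_singleton.1 e) ▸ hhb _ hm'))
      (fun x hx => (List.mem_cons.1 hx).elim (fun e => e ▸ hhb _ hm') (hz x)) (hzh _ hm')
    rwa [wv_append, wv_single, wv_cons] at this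
  · have hm' : vs.getD a 0 ∈ vs := by rw [List.getD_eq_getElem _ _ (hv ▸ ha)]; exact List.getElem_mem _
    have := eq_of_sameW hel (W := z ++ [vs.getD a 0]) (W' := List.replicate e (vs.getD a 0) ++ z)
      (fun x hx => (List.mem_append.1 hx).elim (hz x) (fun e => (List.mem_singleton.1 e) ▸ hvb _ hm'))
      (fun x hx => (List.mem_append.1 hx).elim (fun e => (List.eq_of_mem_replicate e) ▸ hvb _ hm') (hz x))
      (hzv _ hm')
    rwa [wv_append, wv_single, wv_append, wv_replicate] at this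

theorem bottom_checks : botOk 6 sevenH = true ∧ botOk 4 fiveLowH = true ∧ botOk 2 threeLowH = true ∧
    scalarOk fiveTop [7] 2 fiveTopV fiveTopH = true ∧
    scalarOk threeMid [19, 20] 2 threeMidV threeMidH = true ∧
    scalarOk threeTop [18] 2 threeTopV threeTopH = true := by decide +kernel

theorem exists_seven : ∃ H : Subgroup Co0, Splits 7 H ∧ 7 ^ 2 ∣ Nat.card H := by
  have hp : Nat.Prime 7 := by norm_num
  obtain ⟨hcop, hs⟩ := bottom (N := 6) hp (by norm_num) bottom_checks.1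
  obtain ⟨h1, h2⟩ := step hp seven_rel.2.2 seven_rel.1 seven_rel.2.1 hs (disj_coprime hcop)
  exact ⟨_, h1, by rw [h2]; exact dvd_mul_right _ _⟩

theorem exists_five : ∃ H : Subgroup Co0, Splits 5 H ∧ 5 ^ 4 ∣ Nat.card H := by
  have hp : Nat.Prime 5 := by norm_num
  obtain ⟨hcop, hs⟩ := bottom (N := 4) hp (by norm_num) bottom_checks.2.1
  obtain ⟨h1, h2⟩ := step hp fiveLow_rel.2.2 fiveLow_rel.1 fiveLow_rel.2.1 hs (disj_coprime hcop)
  have e : fiveLowV ++ fiveLowH = fiveTopH := by decide +kernel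
  rw [e] at h1 h2
  have hd2 : scalarOk fiveTop [7] 2 fiveTopV fiveTopH = true := bottom_checks.2.2.2.1
  obtain ⟨h3, h4⟩ := step hp fiveTop_rel.2.2 fiveTop_rel.1 fiveTop_rel.2.1 h1
    (disj_scalar (by norm_num) (by decide +kernel) hd2)
  refine ⟨_, h3, ?_⟩
  rw [h4, h2, show fiveTop.n = 3 from rfl, show fiveLow.n = 1 from rfl, ← mul_assoc, ← pow_add]
  exact dvd_mul_right _ _

theorem exists_three : ∃ H : Subgroup Co0, Splits 3 H ∧ 3 ^ 9 ∣ Nat.card H := by
  have hp : Nat.Prime 3 := by norm_num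
  obtain ⟨hcop, hs⟩ := bottom (N := 2) hp (by norm_num) bottom_checks.2.2.1
  obtain ⟨h1, h2⟩ := step hp threeLow_rel.2.2 threeLow_rel.1 threeLow_rel.2.1 hs (disj_coprime hcop)
  have e : threeLowV ++ threeLowH = threeMidH := by decide +kernel
  rw [e] at h1 h2
  obtain ⟨h3, h4⟩ := step hp threeMid_rel.2.2 threeMid_rel.1 threeMid_rel.2.1 h1
    (disj_scalar (by norm_num) (by decide +kernel) bottom_checks.2.2.2.2.1)
  have e' : threeMidV ++ threeMidH = threeTopH := by decide +kernel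
  rw [e'] at h3 h4
  obtain ⟨h5, h6⟩ := step hp threeTop_check threeTop_rel threeTop_ind h3
    (disj_scalar (by norm_num) (by decide +kernel) bottom_checks.2.2.2.2.2)
  refine ⟨_, h5, ?_⟩
  rw [h6, h4, h2, show threeTop.n = 6 from rfl, show threeMid.n = 2 from rfl, show threeLow.n = 1 from rfl,
    ← mul_assoc, ← mul_assoc, ← pow_add, ← pow_add]
  exact dvd_mul_right _ _

end Cfsg.Lib.Co1Mult
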