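import Cfsg.Agent.Lib.Co1Mult.Elements

/-!
# The packed elements are automorphisms of the lattice
-/

set_option autoImplicit false
set_option maxRecDepth 100000

namespace Cfsg.Lib.Co1Mult

theorem letters_ok : lettersOk = true := by decide +kernel

theorem factors_ok : factorsOk = true := by decide +kernel

end Cfsg.Lib.Co1Mult
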