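import Cfsg.Agent.Lib.Concrete.LeechSimpleGroups
import Cfsg.Agent.Lib.Concrete.MathieuStem
import Cfsg.Agent.Lib.Concrete.MathieuPerfect
import Cfsg.Agent.Lib.Co1Mult.CheckMono

/-!
# The monomial subgroup has no stem extension of degree two
-/

set_option autoImplicit false
set_option maxRecDepth 100000

namespace Cfsg.Lib.Co1Mult

open Cfsg Cfsg.Lib.Concrete Cfsg.Lib.Schur Cfsg.Lib.Schur.ModSplit

/-- A mask is a word of the code. -/
def maskOk (m : ℕ) : Bool := decide (m < 16777216) && isCode m

open Classical in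
/-- The sign change on the places of a mask. -/
noncomputable def sgn (m : ℕ) : Co0 :=
  if h : maskOk m = true then
    monoCo0 1 (one_mem _) (mset m) ((mset_mem_supports_iff (by
      simp only [maskOk, Bool.and_eq_true, decide_eq_true_eq] at h; exact h.1)).2 (by
      simp only [maskOk, Bool.and_eq_true, decide_eq_true_eq] at h; exact h.2))
  else 1

theorem sgn_smul {m : ℕ} (h : maskOk m = true) (v : leechLattice) (p : GolayPt) :
    ((sgn m • v : leechLattice) : GolayPt → ℤ) p =
      if m.testBit (gidx p).val then -(v : GolayPt → ℤ) p else (v : GolayPt → ℤ) p := by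
  rw [sgn, dif_pos h, monoCo0_smul]
  simp only [signedPerm, mem_mset]
  rfl

theorem co0_eq_smul {a b : Co0} (h : ∀ v : leechLattice, a • v = b • v) : a = b :=
  Subtype.ext (Equiv.ext h)

theorem sgn_zero : sgn 0 = 1 := co0_eq_smul fun v => Subtype.ext (funext fun p => by
  rw [sgn_smul (by decide +kernel), one_smul]
  simp)

theorem maskOk_xor {a b : ℕ} (ha : maskOk a = true) (hb : maskOk b = true) : maskOk (a ^^^ b) = true := by
  simp only [maskOk, Bool.and_eq_true, decide_eq_true_eq, isCode, beq_iff_eq] at ha hb ⊢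
  refine ⟨Nat.xor_lt_two_pow (n := 24) (by norm_num; exact ha.1) (by norm_num; exact hb.1) |> fun h => by
    norm_num at h; exact h, ?_⟩
  rw [Nat.and_xor_distrib_right, combo, comboAux_xor]
  rw [← combo, ← combo, ha.2, hb.2]

theorem sgn_xor {a b : ℕ} (ha : maskOk a = true) (hb : maskOk b = true) : sgn (a ^^^ b) = sgn a * sgn b :=
  co0_eq_smul fun v => Subtype.ext (funext fun p => by
    rw [sgn_smul (maskOk_xor ha hb), mul_smul, sgn_smul ha, sgn_smul hb, Nat.testBit_xor]
    cases a.testBit (gidx p).val <;> cases b.testBit (gidx p).val <;> simp)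

/-- A basis word of the code. -/
def bmask (a : ℕ) : ℕ := basisMasks.getD a 0

theorem bmask_ok (a : ℕ) : maskOk (bmask a) = true := by
  by_cases h : a < 12
  · exact (show ∀ a < 12, maskOk (bmask a) = true by decide +kernel) a h
  · rw [bmask, List.getD_eq_default _ _ (show basisMasks.length ≤ a from le_of_not_gt h)]
    decide +kernel

/-- The sum of basis words. -/
def xorB : List ℕ → ℕ
  | [] => 0
  | a :: l => Nat.xor (bmask a) (xorB l)

theorem xorB_ok : ∀ l : List ℕ, maskOk (xorB l) = true
  | [] => by decide +kernel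
  | a :: l => maskOk_xor (bmask_ok a) (xorB_ok l)

/-- The module generators. -/
noncomputable def vm (a : ℕ) : Co0 := sgn (bmask a)

theorem wv_vm : ∀ l : List ℕ, wv vm l = sgn (xorB l)
  | [] => sgn_zero.symm
  | a :: l => by rw [wv_cons, wv_vm l, vm, ← sgn_xor (bmask_ok a) (xorB_ok l)]; rfl

theorem blocks_indep : (blocksUpTo 2 12).all (fun e => e.isEmpty || !Nat.beq (xorB e) 0) = true := by
  decide +kernel

/-- The images of the basis words under a packed permutation are the listed sums. -/
def imgOk (gp : ℕ) (k : ℕ) : Bool := (List.range 12).all fun a => Nat.beq (pimg gp (bmask a)) (xorB (Data.mono.img k a))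

theorem sgn_eq_zero {m : ℕ} (h : maskOk m = true) (he : sgn m = 1) : m = 0 := by
  refine Nat.eq_of_testBit_eq fun i => ?_
  rw [Nat.zero_testBit]
  have hm : m < 2 ^ 24 := by
    simp only [maskOk, Bool.and_eq_true, decide_eq_true_eq] at h; exact h.1
  by_cases hi : i < 24
  · by_contra hb
    have h1 := sgn_smul h (e8 (gpt ⟨i, hi⟩)) (gpt ⟨i, hi⟩)
    rw [he, one_smul, gidx_gpt] at h1
    simp only [Bool.not_eq_false] at hb
    simp [hb, e8] at h1
  · exact Nat.testBit_lt_two_pow (lt_of_lt_of_le hm (Nat.pow_le_pow_right (by norm_num) (by omega)))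

theorem sgn_range_perm {m : ℕ} (h : maskOk m = true) {σ : M24} (he : sgn m = permHom σ) : sgn m = 1 := by
  have h1 : ∀ v : leechLattice, signedPerm σ.1 ∅ (v : GolayPt → ℤ) = signedPerm 1 (mset m) (v : GolayPt → ℤ) :=
    fun v => by
    rw [← monoCo0_smul σ.1 σ.2 ∅ empty_mem_codeSets v,
      show monoCo0 σ.1 σ.2 ∅ empty_mem_codeSets = permHom σ from rfl, ← he]
    funext p
    rw [sgn_smul h]
    simp only [signedPerm, mem_mset]
    rfl
  have hσ : σ = 1 := Subtype.ext (mono_unique h1)
  rw [he, hσ, map_one]

theorem perm_sgn (σ : M24) {m m' : ℕ} (hm : maskOk m = true) (hm' : maskOk m' = true)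
    (hi : ∀ x : GolayPt, m'.testBit (gidx (σ.1 x)).val = m.testBit (gidx x).val) :
    permHom σ * sgn m = sgn m' * permHom σ := co0_eq_smul fun v => Subtype.ext (funext fun p => by
  rw [mul_smul, mul_smul, sgn_smul hm', show permHom σ = monoCo0 σ.1 σ.2 ∅ empty_mem_codeSets from rfl,
    monoCo0_smul, monoCo0_smul]
  have := hi (σ.1.symm p)
  rw [Equiv.apply_symm_apply] at this
  simp only [signedPerm, Finset.notMem_empty, ↓reduceIte, sgn_smul hm, this])

theorem mono_rels : Data.mono.rels = m24S.rels := by decide +kernel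

/-- The monomial subgroup. -/
noncomputable def monoSub (h : ℕ → Co0) : Subgroup Co0 := grpOf Data.mono vm h

theorem exists_monomial : ∃ H : Subgroup Co0, Splits 2 H ∧ Nat.card H = 2 ^ 12 * 244823040 := by
  obtain ⟨G⟩ := autGens_univ m24SGens rfl (by decide +kernel) rfl (by decide) (by decide +kernel)
  let e : m24SGens.grp ≃* M24 := MulEquiv.subgroupCongr ((grp_univ _ rfl).trans fixB_zero)
  let h : ℕ → Co0 := fun k => permHom (e (G.two k))
  have hrep : ∀ k, Concrete.Rep (e (G.two k)).1 (m24SGens.gp (if k = 0 then 0 else 1)) := fun k => by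
    show Concrete.Rep (G.two k : Equiv.Perm GolayPt) _
    unfold AutGens.two
    split <;> exact G.rep _
  have hc := mono_check
  have hshape : Data.mono.shapeOk = true := by
    simp only [ModData.check, Bool.and_eq_true] at hc
    exact hc.1.1.1.1.1.1.2
  have himg : ∀ k < Data.mono.m, ∀ a < Data.mono.n, ∀ x ∈ Data.mono.img k a, x < Data.mono.n := by
    decide +kernel
  have hperm : ∀ k < 2, imgOk (m24SGens.gp (if k = 0 then 0 else 1)) k = true := by decide +kernel
  have hL : Subgroup.closure {g | ∃ k < Data.mono.m, g = h k} = permHom.range := by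
    have h2 : {g | ∃ k < Data.mono.m, g = h k} =
        (permHom.comp e.toMonoidHom) '' {g | g = G.two 0 ∨ g = G.two 1} := by
      ext g
      constructor
      · rintro ⟨k, hk, rfl⟩
        have : k = 0 ∨ k = 1 := by have : k < 2 := hk; omega
        rcases this with rfl | rfl
        · exact ⟨_, Or.inl rfl, rfl⟩
        · exact ⟨_, Or.inr rfl, rfl⟩
      · rintro ⟨x, rfl | rfl, rfl⟩
        · exact ⟨0, by decide, rfl⟩
        · exact ⟨1, by decide, rfl⟩
    rw [h2, ← MonoidHom.map_closure, G.two_gen (by decide +kernel), ← MonoidHom.range_eq_map,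
      MonoidHom.range_comp, MonoidHom.range_eq_top.2 e.surjective, ← MonoidHom.range_eq_map]
  have hvv : ∀ a b, vm a * vm b = vm b * vm a := fun a b => by
    rw [vm, vm, ← sgn_xor (bmask_ok a) (bmask_ok b), ← sgn_xor (bmask_ok b) (bmask_ok a), Nat.xor_comm]
  have hsq : ∀ a, vm a ^ 2 = 1 := fun a => by
    rw [pow_two, vm, ← sgn_xor (bmask_ok a) (bmask_ok a), Nat.xor_self, sgn_zero]
  have S : Setting Data.mono vm h := by
    refine ⟨fun a _ b _ => hvv a b, fun a _ => hsq a, fun k hk a ha => ?_, fun W hW => ?_, ?_, ?_⟩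
    · rw [wv_vm]
      refine perm_sgn (e (G.two k)) (bmask_ok a) (xorB_ok _) fun x => ?_
      have hi := hperm k hk
      simp only [imgOk, List.all_eq_true, List.mem_range, Nat.beq_eq] at hi
      rw [← hi a ha]
      refine Bool.eq_iff_iff.2 ?_
      rw [← mem_mset, ← (hrep k).smul_mset, ← mem_mset]
      exact Finset.smul_mem_smul_finset_iff _
    · have hr := G.two_rels (S := m24S) (by decide +kernel) W (mono_rels ▸ hW)
      have := congrArg (permHom.comp e.toMonoidHom) hr
      rw [map_one] at this
      rw [← this, wordProd, map_list_prod, List.map_map]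
      rfl
    · refine indep_of_blocks _ (show 1 < Data.mono.p by decide) (fun a _ b _ => hvv a b) (fun a _ => hsq a)
        fun w hw h1 => ?_
      rw [wv_vm] at h1
      have h0 := sgn_eq_zero (xorB_ok w) h1
      have hb := List.all_eq_true.1 blocks_indep w hw
      simpa [h0] using hb
    · intro l hl hm
      rw [hL] at hm
      obtain ⟨σ, hσ⟩ := hm
      rw [wv_vm] at hσ ⊢
      exact sgn_range_perm (xorB_ok l) hσ.symm
  haveI : Finite Co0 := finite_Co0
  haveI : Fact (Nat.Prime 2) := ⟨Nat.prime_two⟩
  have hsL : Splits 2 (Subgroup.closure {g | ∃ k < Data.mono.m, g = h k}) := by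
    have e0 : fixB 0 = M24 := fixB_zero
    have hp : commutator (fixB 0) = ⊤ := by
      refine Subgroup.map_injective (fixB 0).subtype_injective ?_
      rw [commutator_def, Subgroup.map_commutator, ← MonoidHom.range_eq_map, Subgroup.range_subtype]
      exact perfect_fixB_zero
    refine Splits.of_equiv (((MulEquiv.subgroupCongr e0).trans (MonoidHom.ofInjective permHom_injective)).trans
      (MulEquiv.subgroupCongr hL.symm)) ?_
    exact splits_of_perfect Nat.prime_two hp (noStem_M24 2 Nat.prime_two)
  refine ⟨grpOf Data.mono vm h, splits_of_check Nat.prime_two hc S hsL, ?_⟩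
  rw [card_grpOf (show 1 < Data.mono.p by decide) S himg, hL,
    ← Nat.card_congr (MonoidHom.ofInjective permHom_injective).toEquiv, card_M24]
  rfl

end Cfsg.Lib.Co1Mult
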