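import Cfsg.Agent.Lib.Co1Mult.Chains
import Cfsg.Agent.Lib.Co1Mult.Monomial
import Cfsg.Agent.Lib.Schur.CoverBound
import Cfsg.Agent.Lib.Leech.Negation

/-!
# The multiplier of the first Conway group has order two
-/

set_option autoImplicit false

namespace Cfsg.Lib.Co1Mult

open Cfsg Cfsg.Lib.Concrete Cfsg.Lib.Schur
open scoped commutatorElement

theorem commutator_co1 : commutator Spor.Co1 = ⊤ := by
  haveI : IsSimpleGroup Spor.Co1 := isCo1_quotient.1
  refine ((inferInstance : (commutator Spor.Co1).Normal).eq_bot_or_eq_top).resolve_left fun h => ?_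
  let _ : CommGroup Spor.Co1 := { (inferInstance : Group Spor.Co1) with
    mul_comm := fun a b => by
      have : ⁅a, b⁆ ∈ commutator Spor.Co1 :=
        Subgroup.commutator_mem_commutator (Subgroup.mem_top a) (Subgroup.mem_top b)
      rw [h, Subgroup.mem_bot] at this
      exact commutatorElement_eq_one_iff_mul_comm.1 this }
  have hp := IsSimpleGroup.prime_card (α := Spor.Co1)
  rw [show Nat.card Spor.Co1 = 4157776806543360000 from isCo1_quotient.2] at hp
  exact Nat.not_prime_mul (a := 2) (b := 2078888403271680000) (by norm_num) (by norm_num) (by convert hp using 1)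

theorem center_le_commutator : Subgroup.center Co0 ≤ commutator Co0 := by
  haveI : Fact (Nat.Prime 2) := ⟨Nat.prime_two⟩
  by_contra hne
  have hd : commutator Co0 ⊓ Subgroup.center Co0 = ⊥ := by
    have hdvd : Nat.card ↥(commutator Co0 ⊓ Subgroup.center Co0) ∣ 2 :=
      card_center_Co0 ▸ Subgroup.card_dvd_of_le inf_le_right
    rcases (Nat.dvd_prime Nat.prime_two).1 hdvd with e | e
    · exact Subgroup.eq_bot_of_card_eq _ e
    · haveI : Finite Co0 := finite_Co0
      have := Subgroup.eq_of_le_of_card_ge (inf_le_right : commutator Co0 ⊓ Subgroup.center Co0 ≤ _)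
        (by rw [e, card_center_Co0])
      exact absurd (this ▸ inf_le_left) hne
  set g := Cfsg.Lib.Leech.rootNeg
  have hneg : ∀ v : leechLattice, (g * g) • v = -v := fun v => Subtype.ext (Cfsg.Lib.Leech.rootNeg_sq v)
  have hgc : g * g ∈ Subgroup.center Co0 := Subgroup.mem_center_iff.2 fun k =>
    Subtype.ext (Equiv.ext fun v => by
      show k • ((g * g) • v) = (g * g) • (k • v)
      rw [hneg, hneg]
      exact map_neg (co0Hom k) v)
  obtain ⟨q, hq, hqg⟩ : ∃ q ∈ commutator Co0, q⁻¹ * g ∈ Subgroup.center Co0 := by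
    have hm : (QuotientGroup.mk' (Subgroup.center Co0)) g ∈
        (commutator Co0).map (QuotientGroup.mk' (Subgroup.center Co0)) := by
      rw [_root_.commutator_def, Subgroup.map_commutator, Subgroup.map_top_of_surjective _
        (QuotientGroup.mk'_surjective _), ← _root_.commutator_def, commutator_co1]
      exact Subgroup.mem_top _
    obtain ⟨q, hq, e⟩ := hm
    exact ⟨q, hq, QuotientGroup.eq.1 e⟩
  haveI : Finite Co0 := finite_Co0
  have hz2 : (q⁻¹ * g) * (q⁻¹ * g) = 1 := by
    have h := congrArg Subtype.val (pow_card_eq_one' (x := (⟨_, hqg⟩ : Subgroup.center Co0)))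
    rw [card_center_Co0] at h
    simpa [pow_two] using h
  have h1 : g * g = q * q := by
    have hc := Subgroup.mem_center_iff.1 hqg q
    calc g * g = (q * (q⁻¹ * g)) * (q * (q⁻¹ * g)) := by rw [mul_inv_cancel_left]
      _ = q * ((q⁻¹ * g) * q) * (q⁻¹ * g) := by group
      _ = q * (q * (q⁻¹ * g)) * (q⁻¹ * g) := by rw [hc]
      _ = q * q * ((q⁻¹ * g) * (q⁻¹ * g)) := by group
      _ = q * q := by rw [hz2, mul_one]
  have hbot : g * g ∈ commutator Co0 ⊓ Subgroup.center Co0 := ⟨h1 ▸ mul_mem hq hq, hgc⟩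
  rw [hd, Subgroup.mem_bot] at hbot
  have := congrFun (congrArg Subtype.val (hneg (e8 none))) none
  rw [hbot, one_smul] at this
  simp [e8] at this

theorem noStem_of_part {p e : ℕ} (hp : p.Prime) {H : Subgroup Co0} (hs : Splits p H) (hd : p ^ e ∣ Nat.card H)
    (hmax : ¬ p ^ (e + 1) ∣ 8315553613086720000) : NoStem p Co0 := by
  haveI : Finite Co0 := finite_Co0
  refine noStem_of_index_prime hp H (hs.noStem hp) fun hi => hmax ?_
  rw [← card_Co0, ← H.card_mul_index, pow_succ]
  exact Nat.mul_dvd_mul hd hi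

theorem noStem_co0 (p : ℕ) (hp : p.Prime) : NoStem p Co0 := by
  haveI : Finite Co0 := finite_Co0
  by_cases h2 : p = 2
  · subst h2
    obtain ⟨H, hs, hc⟩ := exists_monomial
    exact noStem_of_part (e := 22) hp hs (by rw [hc]; norm_num) (by norm_num)
  by_cases h3 : p = 3
  · subst h3
    obtain ⟨H, hs, hc⟩ := exists_three
    exact noStem_of_part hp hs hc (by norm_num)
  by_cases h5 : p = 5
  · subst h5
    obtain ⟨H, hs, hc⟩ := exists_five
    exact noStem_of_part hp hs hc (by norm_num)
  by_cases h7 : p = 7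
  · subst h7
    obtain ⟨H, hs, hc⟩ := exists_seven
    exact noStem_of_part hp hs hc (by norm_num)
  refine noStem_of_not_sq_dvd hp ?_
  rw [card_Co0, show (8315553613086720000 : ℕ) = 2 ^ 22 * 3 ^ 9 * 5 ^ 4 * 7 ^ 2 * (11 * (13 * 23)) by norm_num]
  intro h
  have hc : ∀ q k : ℕ, q.Prime → p ≠ q → Nat.Coprime (p ^ 2) (q ^ k) := fun q k hq hne =>
    Nat.Coprime.pow _ _ ((Nat.coprime_primes hp hq).2 hne)
  have h' := (((hc 2 22 Nat.prime_two h2).mul_right (hc 3 9 Nat.prime_three h3)).mul_right
    (hc 5 4 (by norm_num) h5)).mul_right (hc 7 2 (by norm_num) h7)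
  have hd := h'.dvd_of_dvd_mul_left h
  have hle : p ^ 2 ≤ 11 * (13 * 23) := Nat.le_of_dvd (by norm_num) hd
  have hp58 : p < 58 := by nlinarith
  interval_cases p <;> first | omega | exact absurd hp (by norm_num) | exact absurd hd (by norm_num)

theorem multiplier_co1 : HasCyclicSchurMultiplier Spor.Co1 2 := by
  haveI : Finite Co0 := finite_Co0
  haveI : Fact (Nat.Prime 2) := ⟨Nat.prime_two⟩
  let σ : Co0 →* Spor.Co1 := QuotientGroup.mk' (Subgroup.center Co0)
  have hk : σ.ker = Subgroup.center Co0 := QuotientGroup.ker_mk' _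
  exact hasSchurMultiplier_of_cover commutator_co1 (σ₀ := σ)
    ⟨QuotientGroup.mk'_surjective _, hk.le, hk.le.trans center_le_commutator⟩ noStem_co0
    (mulEquivOfPrimeCardEq (p := 2) (by rw [hk]; exact card_center_Co0) (by simp))

end Cfsg.Lib.Co1Mult
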